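import Groth.Agent.H98LV.FrobPow

set_option autoImplicit false
set_option maxHeartbeats 400000
set_option backward.isDefEq.respectTransparency.types false
universe u

open CategoryTheory CategoryTheory.Limits AlgebraicGeometry Opposite
open Groth.Agent.Div89

/-!
# Invariance under a Frobenius twist implies contraction
-/

namespace Groth.Agent.H98LV

lemma stalkIdeal_radical {X : Scheme.{u}} (A : X.IdealSheafData) (x : X) :
    stalkIdeal A.radical x = (stalkIdeal A x).radical := by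
  obtain ⟨U, hx⟩ := exists_affine_mem x
  rw [stalkIdeal_eq _ U x hx, stalkIdeal_eq _ U x hx]
  letI := (X.presheaf.germ U.1 x hx).hom.toAlgebra
  haveI := U.2.isLocalization_stalk ⟨x, hx⟩
  exact IsLocalization.map_radical (U.2.primeIdealOf ⟨x, hx⟩).asIdeal.primeCompl _ _

variable {C C₀ X : Scheme.{u}} (p : ℕ) [Fact p.Prime] {k₀ K : Type u} [CommRing k₀] [Field K] [IsAlgClosed K]
  [Algebra k₀ K] (f₀ : C₀ ⟶ Spec (CommRingCat.of k₀)) [FrobSch.IsCharP C₀ p]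
  {πC₀ : C ⟶ C₀} {πK : C ⟶ Spec (CommRingCat.of K)}

/-- Pointwise contraction on an open where the correspondence is invariant. -/
theorem contract (hC : IsPullback πC₀ πK f₀ (Spec.map (CommRingCat.ofHom (algebraMap k₀ K))))
    (m : ℕ) (Fr : C ⟶ C) (hFr₀ : Fr ≫ πC₀ = πC₀ ≫ End.asHom (End.of (FrobSch.frob C₀ p) ^ m))
    (hFrK : Fr ≫ πK = πK) (c₁ c₂ : C ⟶ X) (I : X.IdealSheafData) (d : ℕ)
    (hd : (I.comap c₂).radical ^ d ≤ I.comap c₂) (hn : d < p ^ m) (W : C.Opens)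
    (hinv : ∀ z ∈ W, c₂ z ∈ I.support → (Fr ≫ c₁) z ∈ I.support) :
    I.comap (W.ι ≫ Fr ≫ c₁) ≤ I.comap (W.ι ≫ c₂) ∧
      I.comap (W.ι ≫ Fr ≫ c₁) ^ d ≤ I.comap (W.ι ≫ c₂) ^ (d + 1) := by
  set J := I.comap (W.ι ≫ Fr ≫ c₁)
  set A := I.comap (W.ι ≫ c₂)
  have hJA : J ≤ A.radical := by
    refine J.le_radical.trans ?_
    rw [← Scheme.IdealSheafData.vanishingIdeal_support, ← Scheme.IdealSheafData.vanishingIdeal_support]
    refine Scheme.IdealSheafData.vanishingIdeal_antimono fun z hz => ?_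
    simp only [J, A, Scheme.IdealSheafData.support_comap] at hz ⊢
    exact hinv (W.ι z) z.2 hz
  suffices h : ∀ y, stalkIdeal J y ≤ stalkIdeal A y ∧ stalkIdeal J y ^ d ≤ stalkIdeal A y ^ (d + 1) by
    rw [le_iff_stalkIdeal, le_iff_stalkIdeal]
    exact ⟨fun y => (h y).1, fun y => by rw [stalkIdeal_pow, stalkIdeal_pow]; exact (h y).2⟩
  intro y
  have hR : (stalkIdeal A y).radical ^ d ≤ stalkIdeal A y := by
    have h1 := (le_iff_stalkIdeal _ _).mp hd (W.ι y)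
    rw [stalkIdeal_pow, stalkIdeal_radical] at h1
    have h2 : stalkIdeal A y = (stalkIdeal (I.comap c₂) (W.ι y)).map (W.ι.stalkMap y).hom := by
      simp only [A]
      rw [Scheme.IdealSheafData.comap_comp, stalkIdeal_comap]
    have hb : Function.Bijective (W.ι.stalkMap y).hom := ConcreteCategory.bijective_of_isIso (W.ι.stalkMap y)
    rw [h2, ← Ideal.map_radical_of_surjective hb.2 (by
      rw [(RingHom.injective_iff_ker_eq_bot _).mp hb.1]; exact bot_le), ← Ideal.map_pow]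
    exact Ideal.map_mono h1
  have hJ : stalkIdeal J y ≤ (stalkIdeal A y).radical ^ (p ^ m) := by
    have hle : stalkIdeal J y ≤ (stalkIdeal A y).radical := stalkIdeal_radical A y ▸ (le_iff_stalkIdeal _ _).mp hJA y
    have e : stalkIdeal J y = ((stalkIdeal (I.comap c₁) (Fr (W.ι y))).map (Fr.stalkMap (W.ι y)).hom).map
        (W.ι.stalkMap y).hom := by
      simp only [J]
      rw [Scheme.IdealSheafData.comap_comp, stalkIdeal_comap, Scheme.IdealSheafData.comap_comp, stalkIdeal_comap]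
    rw [e, Ideal.map_map] at hle ⊢
    rw [Ideal.map_le_iff_le_comap] at hle ⊢
    intro t ht
    obtain ⟨b, hb⟩ := exists_stalkMap_eq_pow p f₀ πC₀ πK hC m Fr hFr₀ hFrK (W.ι y) t
    have h1 := hle ht
    rw [Ideal.mem_comap, RingHom.comp_apply, hb, map_pow] at h1 ⊢
    exact Ideal.pow_mem_pow ((Ideal.radical_isRadical (stalkIdeal A y)) ⟨_, h1⟩) _
  refine ⟨hJ.trans ((Ideal.pow_le_pow_right hn.le).trans hR), ?_⟩
  calc stalkIdeal J y ^ d ≤ ((stalkIdeal A y).radical ^ (p ^ m)) ^ d := Ideal.pow_right_mono hJ d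
    _ = ((stalkIdeal A y).radical ^ d) ^ (p ^ m) := by rw [← pow_mul, ← pow_mul, mul_comm]
    _ ≤ stalkIdeal A y ^ (p ^ m) := Ideal.pow_right_mono hR _
    _ ≤ stalkIdeal A y ^ (d + 1) := Ideal.pow_le_pow_right hn

/-- Global contraction. -/
theorem contract_top (hC : IsPullback πC₀ πK f₀ (Spec.map (CommRingCat.ofHom (algebraMap k₀ K))))
    (m : ℕ) (Fr : C ⟶ C) (hFr₀ : Fr ≫ πC₀ = πC₀ ≫ End.asHom (End.of (FrobSch.frob C₀ p) ^ m))
    (hFrK : Fr ≫ πK = πK) (c₁ c₂ : C ⟶ X) (I : X.IdealSheafData) (d : ℕ)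
    (hd : (I.comap c₂).radical ^ d ≤ I.comap c₂) (hn : d < p ^ m)
    (hinv : ∀ z, c₂ z ∈ I.support → (Fr ≫ c₁) z ∈ I.support) :
    I.comap (Fr ≫ c₁) ≤ I.comap c₂ ∧ I.comap (Fr ≫ c₁) ^ d ≤ I.comap c₂ ^ (d + 1) := by
  obtain ⟨h1, h2⟩ := contract p f₀ hC m Fr hFr₀ hFrK c₁ c₂ I d hd hn ⊤ fun z _ => hinv z
  have hinj : ∀ A B : C.IdealSheafData,
      A.comap (⊤ : C.Opens).ι ≤ B.comap (⊤ : C.Opens).ι → A ≤ B := fun A B h => by
    rw [le_iff_stalkIdeal]
    intro x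
    have hx := (le_iff_stalkIdeal _ _).mp h ⟨x, trivial⟩
    rw [stalkIdeal_comap, stalkIdeal_comap] at hx
    have hb : Function.Bijective ((⊤ : C.Opens).ι.stalkMap ⟨x, trivial⟩).hom :=
      ConcreteCategory.bijective_of_isIso ((⊤ : C.Opens).ι.stalkMap ⟨x, trivial⟩)
    have h3 := Ideal.comap_mono (f := ((⊤ : C.Opens).ι.stalkMap ⟨x, trivial⟩).hom) hx
    rwa [Ideal.comap_map_of_bijective _ hb, Ideal.comap_map_of_bijective _ hb] at h3
  rw [Scheme.IdealSheafData.comap_comp, Scheme.IdealSheafData.comap_comp _ (⊤ : C.Opens).ι c₂] at h1 h2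
  refine ⟨hinj _ _ h1, hinj _ _ ?_⟩
  rwa [comap_pow, comap_pow]

end Groth.Agent.H98LV
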