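import Groth.Prelude.Def_Frob
import Groth.Agent.Div89.Comap
import Mathlib

set_option autoImplicit false
set_option maxHeartbeats 400000
set_option backward.isDefEq.respectTransparency.types false
universe u

open CategoryTheory CategoryTheory.Limits AlgebraicGeometry Opposite

/-!
# The relative Frobenius pulls every local function back to a `p`-power
-/

namespace Groth.Agent.H98LV

lemma appLE_congr_hom {X Y : Scheme.{u}} {f g : X ⟶ Y} (h : f = g) (U : Y.Opens) (V : X.Opens)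
    (e : V ≤ f ⁻¹ᵁ U) : f.appLE U V e = g.appLE U V (h ▸ e) := by
  subst h; rfl

lemma powEnd_preimage {X : Scheme.{u}} (p : ℕ) [Fact p.Prime] [FrobSch.IsCharP X p] (m : ℕ) (U : X.Opens) :
    End.asHom (End.of (FrobSch.frob X p) ^ m) ⁻¹ᵁ U = U := by
  induction m with
  | zero => rfl
  | succ m ih =>
    rw [pow_succ', show End.asHom (End.of (FrobSch.frob X p) * End.of (FrobSch.frob X p) ^ m) =
      End.asHom (End.of (FrobSch.frob X p) ^ m) ≫ FrobSch.frob X p from rfl]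
    exact (congrArg (End.asHom (End.of (FrobSch.frob X p) ^ m) ⁻¹ᵁ ·) (FrobSch.frob_preimage X p U)).trans ih

lemma powEnd_apply {X : Scheme.{u}} (p : ℕ) [Fact p.Prime] [FrobSch.IsCharP X p] (m : ℕ) (x : X) :
    End.asHom (End.of (FrobSch.frob X p) ^ m) x = x := by
  induction m generalizing x with
  | zero => rfl
  | succ m ih =>
    rw [pow_succ', show End.asHom (End.of (FrobSch.frob X p) * End.of (FrobSch.frob X p) ^ m) =
      End.asHom (End.of (FrobSch.frob X p) ^ m) ≫ FrobSch.frob X p from rfl, Scheme.Hom.comp_apply,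
      FrobSch.frob_apply, ih]

lemma powEnd_appLE {X : Scheme.{u}} (p : ℕ) [Fact p.Prime] [FrobSch.IsCharP X p] (m : ℕ) (U : X.Opens)
    (s : Γ(X, U)) :
    (End.asHom (End.of (FrobSch.frob X p) ^ m)).appLE U U (powEnd_preimage p m U).ge s = s ^ p ^ m := by
  induction m generalizing s with
  | zero =>
    have e : End.asHom (End.of (FrobSch.frob X p) ^ 0) = 𝟙 X := by rw [pow_zero]; rfl
    rw [appLE_congr_hom e]
    simp [Scheme.Hom.appLE]
    exact congr($(X.presheaf.map_id (op U)) s)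
  | succ m ih =>
    have e : End.asHom (End.of (FrobSch.frob X p) ^ (m + 1)) =
        End.asHom (End.of (FrobSch.frob X p) ^ m) ≫ FrobSch.frob X p := by
      rw [pow_succ']; rfl
    rw [appLE_congr_hom e, ← Scheme.Hom.appLE_comp_appLE _ (FrobSch.frob X p) U U U (le_of_eq
      (FrobSch.frob_preimage X p U).symm) (powEnd_preimage p m U).ge, CommRingCat.comp_apply,
      show (FrobSch.frob X p).appLE U U (le_of_eq (FrobSch.frob_preimage X p U).symm) s = s ^ p by
        rw [Scheme.Hom.appLE, CommRingCat.comp_apply, FrobSch.frob_app]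
        exact congr($(X.presheaf.map_id (op U)) (s ^ p)),
      ih, ← pow_mul, mul_comm, ← pow_succ]

/-- The `p ^ m`-th powers form a subring in characteristic `p`. -/
theorem exists_powHom (p : ℕ) [Fact p.Prime] {R : Type u} [CommRing R] (h : (p : R) = 0) (m : ℕ) :
    ∃ φ : R →+* R, ∀ x, φ x = x ^ p ^ m := by
  induction m with
  | zero => exact ⟨RingHom.id R, fun x => (pow_one x).symm⟩
  | succ m ih =>
    obtain ⟨φ, hφ⟩ := ih
    exact ⟨(FrobSch.powHom p R h).comp φ, fun x => by simp [hφ, ← pow_mul, ← pow_succ]⟩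

/-- The images of two maps generate a pushout. -/
theorem closure_of_isPushout {A B C D : CommRingCat.{u}} {f : A ⟶ B} {g : A ⟶ C} {l : B ⟶ D} {r : C ⟶ D}
    (h : IsPushout f g l r) (x : D) : x ∈ Subring.closure (Set.range l ∪ Set.range r) := by
  let T := Subring.closure (Set.range l ∪ Set.range r)
  let l' : B ⟶ CommRingCat.of T := CommRingCat.ofHom
    (l.hom.codRestrict T fun b => Subring.subset_closure (Or.inl ⟨b, rfl⟩))
  let r' : C ⟶ CommRingCat.of T := CommRingCat.ofHom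
    (r.hom.codRestrict T fun b => Subring.subset_closure (Or.inr ⟨b, rfl⟩))
  let i : CommRingCat.of T ⟶ D := CommRingCat.ofHom T.subtype
  have hw : f ≫ l' = g ≫ r' := by
    ext a
    exact congr($(h.w) a)
  have hd : h.desc l' r' hw ≫ i = 𝟙 D := by
    apply h.hom_ext
    · rw [h.inl_desc_assoc, Category.comp_id]; rfl
    · rw [h.inr_desc_assoc, Category.comp_id]; rfl
  rw [← show (h.desc l' r' hw ≫ i) x = x from by rw [hd]; rfl]
  exact (h.desc l' r' hw x).2

variable {C C₀ : Scheme.{u}} (p : ℕ) [Fact p.Prime] {k₀ K : Type u} [CommRing k₀] [Field K] [IsAlgClosed K]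
  [Algebra k₀ K] (f₀ : C₀ ⟶ Spec (CommRingCat.of k₀)) [FrobSch.IsCharP C₀ p]
  (πC₀ : C ⟶ C₀) (πK : C ⟶ Spec (CommRingCat.of K))

include f₀ in
/-- Every local function pulls back along the relative Frobenius to a `p ^ m`-th power. -/
theorem exists_stalkMap_eq_pow (hC : IsPullback πC₀ πK f₀ (Spec.map (CommRingCat.ofHom (algebraMap k₀ K))))
    (m : ℕ) (Fr : C ⟶ C) (hFr₀ : Fr ≫ πC₀ = πC₀ ≫ End.asHom (End.of (FrobSch.frob C₀ p) ^ m))
    (hFrK : Fr ≫ πK = πK) (x : C) (t : C.presheaf.stalk (Fr x)) :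
    ∃ b, (Fr.stalkMap x).hom t = b ^ p ^ m := by
  obtain ⟨W₀, hW₀, hxW₀, -⟩ :=
    exists_isAffineOpen_mem_and_subset (X := C₀) (x := πC₀ (Fr x)) (U := ⊤) trivial
  haveI : IsAffineHom πC₀ := MorphismProperty.of_isPullback hC.flip inferInstance
  let W := πC₀ ⁻¹ᵁ W₀ ⊓ πK ⁻¹ᵁ ⊤
  have hW : IsAffineOpen W := by
    rw [show W = πC₀ ⁻¹ᵁ W₀ from inf_top_eq _]
    exact hW₀.preimage πC₀
  have hxW : Fr x ∈ W := ⟨hxW₀, trivial⟩
  have hpo := (isIso_pushoutSection_iff hC (US := ⊤) (UT := ⊤) (UX := W₀) le_top le_top (UY := W) rfl).mp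
    (isIso_pushoutSection_of_isAffineOpen hC le_top le_top rfl (isAffineOpen_top _) (isAffineOpen_top _) hW₀)
  haveI : FrobSch.IsCharP C p := FrobSch.IsCharP.of_hom πC₀ p
  let R := C.presheaf.stalk x
  have hp0 : (p : R) = 0 := by
    have := congrArg (C.presheaf.germ ⊤ x trivial).hom (FrobSch.natCast_eq_zero_app C p ⊤)
    simpa using this
  obtain ⟨φ, hφ⟩ := exists_powHom p hp0 m
  let g : Γ(C, W) →+* R :=
    (Fr.stalkMap x).hom.comp (C.presheaf.germ W (Fr x) hxW).hom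
  have hgen : ∀ z, g z ∈ φ.range := by
    intro z
    refine (Subring.closure_le (t := φ.range.comap g)).mpr ?_ (closure_of_isPushout hpo z)
    rintro _ (⟨a, rfl⟩ | ⟨c, rfl⟩)
    · change g _ ∈ φ.range
      refine ⟨C.presheaf.germ (Fr ⁻¹ᵁ W) x hxW
        (πC₀.appLE W₀ (Fr ⁻¹ᵁ W) ?_ a), ?_⟩
      · intro z hz
        have h1 : πC₀ (Fr z) ∈ W₀ := hz.1
        rw [← Scheme.Hom.comp_apply, hFr₀, Scheme.Hom.comp_apply] at h1
        exact (powEnd_preimage p m W₀).le (show πC₀ z ∈ End.asHom (End.of (FrobSch.frob C₀ p) ^ m) ⁻¹ᵁ W₀ from h1)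
      rw [hφ, ← map_pow, ← map_pow]
      simp only [g, RingHom.comp_apply]
      rw [Scheme.Hom.germ_stalkMap_apply]
      refine congrArg _ ?_
      rw [← powEnd_appLE p m W₀ a, ← CommRingCat.comp_apply, Scheme.Hom.appLE_comp_appLE]
      rw [appLE_congr_hom hFr₀.symm, ← Scheme.Hom.appLE_comp_appLE Fr πC₀ W₀ W (Fr ⁻¹ᵁ W)
        inf_le_left le_rfl, CommRingCat.comp_apply, Scheme.Hom.appLE_eq_app]
    · change g _ ∈ φ.range
      obtain ⟨c', rfl⟩ : ∃ c', (Scheme.ΓSpecIso (CommRingCat.of K)).inv c' = c :=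
        (ConcreteCategory.bijective_of_isIso (Scheme.ΓSpecIso (CommRingCat.of K)).inv).2 c
      obtain ⟨d, hd⟩ := IsAlgClosed.exists_pow_nat_eq c' (pow_pos (Fact.out : p.Prime).pos m)
      refine ⟨C.presheaf.germ (Fr ⁻¹ᵁ W) x hxW
        (πK.appLE ⊤ (Fr ⁻¹ᵁ W) le_top ((Scheme.ΓSpecIso (CommRingCat.of K)).inv d)), ?_⟩
      rw [hφ, ← map_pow, ← map_pow, ← map_pow, hd]
      simp only [g, RingHom.comp_apply]
      rw [Scheme.Hom.germ_stalkMap_apply]
      refine congrArg _ ?_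
      rw [appLE_congr_hom hFrK.symm, ← Scheme.Hom.appLE_comp_appLE Fr πK ⊤ W (Fr ⁻¹ᵁ W)
        inf_le_right le_rfl, CommRingCat.comp_apply, Scheme.Hom.appLE_eq_app]
  letI := (C.presheaf.germ W (Fr x) hxW).hom.toAlgebra
  haveI := hW.isLocalization_stalk ⟨Fr x, hxW⟩
  obtain ⟨⟨r, s⟩, hrs⟩ := IsLocalization.surj (hW.primeIdealOf ⟨Fr x, hxW⟩).asIdeal.primeCompl t
  obtain ⟨br, hbr⟩ := hgen r
  obtain ⟨bs, hbs⟩ := hgen s
  rw [hφ] at hbr hbs
  have hsu : IsUnit (g s) := (IsLocalization.map_units (C.presheaf.stalk (Fr x)) s).map (Fr.stalkMap x).hom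
  rw [← hbs] at hsu
  obtain ⟨u, hu⟩ := (isUnit_pow_iff (pow_ne_zero m (Fact.out : p.Prime).ne_zero)).mp hsu
  refine ⟨br * ↑u⁻¹, ?_⟩
  have e : (Fr.stalkMap x).hom t * bs ^ p ^ m = br ^ p ^ m := by
    rw [hbs, hbr]
    exact (map_mul (Fr.stalkMap x).hom t _).symm.trans (congrArg _ hrs)
  rw [mul_pow, ← e, ← hu, mul_assoc, ← mul_pow, Units.mul_inv, one_pow, mul_one]

end Groth.Agent.H98LV
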